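import Mathlib
import Cfsg.Agent.Lib.MonType.Std
import Cfsg.Agent.Lib.MonType.C7A
import Cfsg.Agent.Lib.Comp.Component
import Cfsg.Agent.S5416

/-!
Groups of Monster type: the automiser of a subgroup of order seven with centraliser of Held type (helper48).
-/

set_option autoImplicit false

namespace H48.M7

open Cfsg Subgroup H16 H15 H95 H96.Geo.M24 Module

variable {G : Type*} [Group G]

theorem abel_card [Finite G] {Q : Subgroup G} {z : G} (h : ES Q z) {n : ℕ} (hc : Nat.card Q = 2 ^ (2 * n + 1))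
    {E : Subgroup G} (hE : E ≤ Q) (hab : ∀ x ∈ E, ∀ y ∈ E, x * y = y * x) : Nat.card E ≤ 2 * 2 ^ n := by
  obtain ⟨V, _, _, ⟨P⟩⟩ := h.top.exists_pres
  have := P.finite_space
  have h8 : finrank (ZMod 2) V = 2 * n := P.finrank_eq hc
  let W : Submodule (ZMod 2) V :=
    { carrier := {v | ∃ x : Q, (x : G) ∈ E ∧ P.π x = v}
      add_mem' := by
        rintro _ _ ⟨x, hx, rfl⟩ ⟨y, hy, rfl⟩
        exact ⟨x * y, mul_mem hx hy, P.π_mul x y⟩
      zero_mem' := ⟨1, one_mem _, P.π_one⟩
      smul_mem' := fun c v hv => by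
        rcases H95.zmod2_cases c with rfl | rfl
        · rw [zero_smul]; exact ⟨1, one_mem _, P.π_one⟩
        · rw [one_smul]; exact hv }
  have h1 : W ≤ LinearMap.BilinForm.orthogonal (QuadraticMap.polarBilin P.q) W := by
    rintro _ ⟨x, hx, rfl⟩ _ ⟨y, hy, rfl⟩
    exact (P.commute_iff y x).1 (Subtype.ext (hab _ hy _ hx))
  have h2 := Submodule.finrank_mono h1
  rw [LinearMap.BilinForm.finrank_orthogonal (P.nondegenerate_of_ES h.top), h8] at h2
  have h3 := P.card_preimage (· ∈ W)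
  rw [Module.natCard_eq_pow_finrank (K := ZMod 2) (V := W), Nat.card_zmod] at h3
  exact (Nat.card_le_card_of_injective (β := {x : Q // P.π x ∈ W}) (fun x : E => ⟨⟨x, hE x.2⟩, ⟨x, hE x.2⟩, x.2, rfl⟩)
    fun x y e => Subtype.ext (congrArg (fun t => (t.1.1 : G)) e)).trans
    (h3 ▸ Nat.mul_le_mul_left _ (Nat.pow_le_pow_right (by norm_num) (by omega)))

/-- every coset of a maximal elementary abelian subgroup of an extraspecial group of plus type has an involution -/
theorem exists_invol [Finite G] {Q : Subgroup G} {z : G} (h : ES Q z) {n : ℕ} (hc : Nat.card Q = 2 ^ (2 * n + 1))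
    {E : Subgroup G} (hE : E ≤ Q) (he : ∀ x ∈ E, x * x = 1) (cE : Nat.card E = 2 * 2 ^ n) {y : G} (hy : y ∈ Q) :
    ∃ e ∈ E, y * e * (y * e) = 1 := by
  refine (h.sq_mem hy).elim (fun h1 => ⟨1, one_mem _, by rwa [mul_one]⟩) fun h1 => ?_
  by_cases c : ∀ e ∈ E, e * y = y * e
  · have ab : E ≤ centralizer (E : Set G) := fun a ha b hb => by
      rw [← inv_eq_of_mul_eq_one_right (he _ (mul_mem hb ha)), mul_inv_rev, inv_eq_of_mul_eq_one_right (he _ ha),
        inv_eq_of_mul_eq_one_right (he _ hb)]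
    have yE : zpowers y ≤ centralizer (E : Set G) := zpowers_le.2 c
    have := abel_card h hc (sup_le hE (zpowers_le.2 hy)) fun a ha b hb => sup_le (le_centralizer_iff.1 (sup_le ab yE))
      (le_centralizer_iff.1 (sup_le (le_centralizer_iff.1 yE) (le_centralizer _))) hb a ha
    have e := eq_of_le_of_card_ge (le_sup_left : E ≤ E ⊔ zpowers y) (cE ▸ this)
    exact absurd (h1.symm.trans (he y (e ▸ mem_sup_right (mem_zpowers y)))) h.ne_one
  · push Not at c
    obtain ⟨e, hx, c⟩ := c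
    refine ⟨e, hx, ?_⟩
    calc _ = y * (e * y) * e := by group
      _ = y * y * (e * z) * e := by rw [(h.comm e (hE hx) y hy).resolve_left c]; group
      _ = 1 := by rw [h1, h.central e (hE hx), ← mul_assoc, h.sq, one_mul, he e hx]

theorem not_real : ∀ h ∈ M24, permOf c7A * h * permOf c7A ≠ h := fun h hh e => by
  have k : inM24 971011494989733351745723063945477682 = true := by decide +kernel
  have e1 := permOf_mul_eq (okP_of_inM24 in7A) (okP_mulP (okP_of_inM24 k)
    (show okP c7B = true by decide +kernel)) (c := 971011494989733351745723063945477682) (by decide +kernel)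
  rw [permOf_mulP (okP_of_inM24 k) (show okP c7B = true by decide +kernel)] at e1
  refine nc7A_7B (h * permOf 971011494989733351745723063945477682)⁻¹ (inv_mem (mul_mem hh (permOf_mem_M24 k))) ?_
  generalize permOf 971011494989733351745723063945477682 = u, permOf c7B = y at e1
  generalize permOf c7A = x at e e1
  calc (h * u)⁻¹ * x * (h * u)⁻¹⁻¹ = u⁻¹ * h⁻¹ * (x * h * x) * x⁻¹ * u := by group
    _ = u⁻¹ * x⁻¹ * (x * (u * y)) := by rw [e, e1]; group
    _ = y := by group

/-- an element of `Co0` carrying a dodecad sign change to an element inverting `γ7A` -/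
def gI : ℕ := 0xd00130013000f00110011000f000f000f000f000f0013001100110011000f000f00110013000f000f000f0011000f00110013000f000f00110011000f000f000f0013000f000f0011001100110013000f000d000f000f000f000f00110013000f001100110011000f000f00110011000d001100110011000f000f000f00110011000f000d0011000d00110013000d0011000f000f000f0011000d000f000f000f000f000f000f0015000d0011000f000f0011000f000f000f000f0011000f0013001100110011000f000f001100110011001100110011000f000f000f000d000d000f0011000d000d0011000f00110011000f000f0013001100110013000f000f000f000f000f001100110011000f0013000d0013000f000f000f0011000f0011000f00130013000d0011000f000f000f0013000f000f001100110011000f000f0011000f000f0013000f0011000f000f0011000d0011000f000f001100110011001100110011000f000f00130011000d000f001100110011000d000f000d0011000f000f000f00110011000f000f000f00130013000f00110011000d000f000f001100130013000f000f0011000f000f0011000d0011000f000f000d001100110011000d0011000f000f000f000d0011000f0011001100110011001300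11000f000d00110011000f000f000d000d0011001100110011000f000f001300110011000f00110011000d0011000f0011000d000f000f000f000d0011000f000f000f000f000f000f00110011000d000f000f000d000f000f000f000f000d000f000f001100110011000f000b00110011001100110011001100130013000f00110011000f0011001100110011000f0011001300110011000d000f000f0011000d00110011000d0011000f000f000f00110011000f0011001100110011000f000d0011000f000f000f00110011000f0013000f0013000f0013001100110011000f00130011000f000f000f000f000d000f0011000f000f000f000d00110013000f000f000f000f0013001100110011000f000f0011000f0013000f000f001100130011000f000f000f0011000d000f000f000f000f000f000f000d00150011000f000f0011000f000f000f000f0011000f000f00110011000d000f000f00110011000d00110011000d000f000f0013000d0011000f0011001100110011000f0011000f000d0011000d000f000f001100110011001100110011000f000f000f00110011000f0011000d0011000d00130011000f000d001100110013000f00110011000d0011000d0011000f000f000f0011000d000f0011001100110011000f0011000f0011000d0011000f000f0011000d000d001100110011000f000f000f0011001100130011000d00110011000f00110013001100110011000f000f000d0011000d000d00110011000f000f000f00110011000f001100110011000d000f00110011000f000f000f000d0011000f0013000f000f000f000f0011001100110013000f00110013000f000f00130011000f0011000f000f000f00110011000f000f000f000f00130013001100110011000f000f000d000f000f001300130011000f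

theorem gI_ok : okM gI = true ∧ isCode 12500032 = true ∧ inM24 220795224719658205342372974323747489 = true ∧
    mulM (permM c7A) (mulM (mulM (mulM gI (epsM 12500032)) (invM gI)) (permM c7A)) =
      mulM (mulM gI (epsM 12500032)) (invM gI) ∧ mulM (permM 220795224719658205342372974323747489) (permM c7A) =
      mulM (mulM (permM c7A) (permM c7A)) (permM 220795224719658205342372974323747489) := by decide +kernel

theorem co_data : (∃ g : Co0, ∃ ε ∈ epsGroup, γ7A * (g * ε * g⁻¹ * γ7A) = g * ε * g⁻¹) ∧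
    ∃ k : Co0, k * γ7A * k⁻¹ = γ7A ^ 2 := by
  obtain ⟨a, b, c, d, e⟩ := gI_ok
  have m := isM_perm in7A
  have u := ((isM_el a).mul (isM_eps b)).mul (isM_el a).inv
  exact ⟨⟨_, _, mem_epsGroup.2 ⟨_, _, rfl⟩, (d ▸ m.mul (u.mul m)).eq_el u⟩, _, mul_inv_eq_of_eq_mul
    (pow_two γ7A ▸ (e ▸ (isM_perm c).mul m).eq_el ((m.mul m).mul (isM_perm c)))⟩

variable [Finite G] {z : G} {Q : Subgroup G} {φ : centralizer ({z} : Set G) →* Spor.Co1}
  {cls : leechLattice → G → Prop}

omit [Finite G] in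
theorem ker_two (M : Mon z Q φ cls) : IsPGroup 2 φ.ker := isPGroup_of_pow 2 fun c hc =>
  Subtype.ext (M.h.pow_four ((M.ker c).1 hc))

theorem invol_over (M : Mon z Q φ cls) {s : G} (hs : cls (e8 none) s) (hc : IsConj z s) (hne : s ≠ z) {ε : Co0}
    (hε : ε ∈ epsGroup) (g : Co0) :
    ∃ t : centralizer ({z} : Set G), t * t = 1 ∧ (QuotientGroup.mk (g * ε * g⁻¹) : Spor.Co1) = φ t := by
  obtain ⟨u, rfl⟩ := isConj_iff.1 hc
  have p := M.pair (M.mem hs) hne
  obtain ⟨c1, c2⟩ := M.card_E p (M.card_conj u) hs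
  obtain ⟨y, hy, e⟩ := c2.ge ⟨ε, hε, rfl⟩
  obtain ⟨x, hx, h⟩ := exists_invol p.h'.toES (n := 12) (M.card_conj u) inf_le_right (fun _ => p.E_elementary) c1 hy.1
  obtain ⟨c, hc⟩ := M.exists_lift g
  refine ⟨c * (y * ⟨x, M.h.le_centralizer hx.1⟩) * c⁻¹, ?_, ?_⟩
  · rw [conj_mul, show (y * ⟨x, M.h.le_centralizer hx.1⟩) * (y * ⟨x, _⟩) = 1 from Subtype.ext h, mul_one,
      mul_inv_cancel]
  · rw [map_mul, map_mul, map_mul, (M.ker ⟨x, _⟩).2 hx.1, mul_one, map_inv, ← hc, e]; rfl

theorem seven (M : Mon z Q φ cls) {s : G} (hs : s ∈ Q) (hc : IsConj z s) (hne : s ≠ z)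
    {b : centralizer ({z} : Set G)} (ob : orderOf b = 7) (hb : (QuotientGroup.mk γ7A : Spor.Co1) = φ b) :
    (∃ n, n * b * n⁻¹ = b ^ 2) ∧ ∃ t : centralizer ({z} : Set G), t * t = 1 ∧ t * b * t⁻¹ = b⁻¹ ∧
      ∃ x ∈ Q, (b : G) * x = x * b ∧ ∀ l : centralizer ({z} : Set G), l * b = b * l →
        (t : G) * x * (t : G)⁻¹ ≠ l * x * (l : G)⁻¹ := by
  obtain ⟨⟨g, ε, hε, hg⟩, k, hk⟩ := co_data
  have odd : ∀ a : centralizer ({z} : Set G), a ^ 7 = 1 → Odd (orderOf a) := fun a h =>
    Odd.of_dvd_nat (by decide) (orderOf_dvd_of_pow_eq_one h)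
  have b7 : b ^ 7 = 1 := ob ▸ pow_orderOf_eq_one b
  obtain ⟨x, hx⟩ := M.ex_elt (e8 none)
  obtain ⟨t, t2, ht⟩ := invol_over M hx (M.isConj_of_norm64 hs hc hne hx (sqNorm_e8 _)) (fun e =>
    Mon.not_cg_zero (Or.inr (sqNorm_e8 _)) ((M.cg_zero_iff hx).2 (Or.inr e))) hε g
  have i1 : φ b * (φ t * φ b) = φ t := by rw [← hb, ← ht]; exact congrArg QuotientGroup.mk hg
  have f7 : φ b ^ 7 = 1 := by rw [← map_pow, b7, map_one]
  have i2 : φ (t * (b * t * b⁻¹)) = (φ b ^ 2)⁻¹ := by
    have : φ t * φ t = 1 := by rw [← map_mul, t2, map_one]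
    simp only [map_mul, map_inv]
    calc _ = (φ b)⁻¹ * (φ b * (φ t * φ b)) * φ t * (φ b)⁻¹ := by group
      _ = _ := by rw [i1, mul_assoc _ (φ t) (φ t), this]; group
  have i3 : t * (t * (b * t * b⁻¹)) * t⁻¹ = (t * (b * t * b⁻¹))⁻¹ := by
    rw [← mul_assoc, t2, one_mul, mul_inv_rev, mul_inv_rev, mul_inv_rev, inv_inv, inv_eq_of_mul_eq_one_right t2,
      mul_assoc b]
  generalize t * (b * t * b⁻¹) = c at i2 i3
  have c28 : (c ^ 7) ^ 4 = 1 := Subtype.ext (M.h.pow_four ((M.ker _).1 (by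
    rw [map_pow, i2, inv_pow, ← pow_mul, mul_comm, pow_mul, f7, one_pow, inv_one])))
  obtain ⟨u, hu⟩ := exists_conj_of_map_eq (ker_two M) (odd (c ^ 24) (by
    rw [← pow_mul, show 24 * 7 = 7 * 4 * 6 from rfl, pow_mul, pow_mul, c28, one_pow])) (odd b b7) (by
    rw [map_pow, i2, inv_pow, ← pow_mul, inv_eq_iff_mul_eq_one, ← pow_succ, show 2 * 24 + 1 = 7 * 7 from rfl, pow_mul,
      f7, one_pow])
  have i4 : u * t * u⁻¹ * b * (u * t * u⁻¹)⁻¹ = b⁻¹ := by
    rw [← hu]
    calc _ = u * (t * c ^ 24 * t⁻¹) * u⁻¹ := by group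
      _ = _ := by rw [← conj_pow, i3]; group
  refine ⟨?_, u * t * u⁻¹, by rw [conj_mul, t2, mul_one, mul_inv_cancel], i4, x, M.mem hx,
    (M.comm_iff_fix hb (odd b b7) hx).2 (by rw [smul_mk2, mk2_eq]; exact mem_monoGroup_iff_cg.1 (permHom_mem _)),
    fun l hl e => ?_⟩
  · obtain ⟨n, hn⟩ := M.exists_lift k
    obtain ⟨v, hv⟩ := exists_conj_of_map_eq (ker_two M) (odd (n * b * n⁻¹) (by rw [conj_pow, b7]; simp))
      (odd (b ^ 2) (by rw [← pow_mul, mul_comm, pow_mul, b7, one_pow])) (by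
        rw [map_mul, map_mul, map_inv, map_pow, ← hn, ← hb]; exact congrArg QuotientGroup.mk hk)
    exact ⟨v * n, by rw [← hv]; group⟩
  · generalize u * t * u⁻¹ = t at i4 e
    obtain ⟨δ, hδ⟩ := QuotientGroup.mk_surjective (φ (l⁻¹ * t))
    have m := mem_monoGroup_iff_cg.2 (M.cg_of_comm hx (c := l⁻¹ * t) (by
      rw [coe_mul, coe_inv, mul_assoc, mul_inv_eq_iff_eq_mul.1 e]; group) hδ)
    have : b * (l⁻¹ * t) * b = l⁻¹ * t := by
      calc _ = l⁻¹ * (l * b) * l⁻¹ * (t * b * t⁻¹) * t := by group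
        _ = _ := by rw [i4, hl, mul_assoc _ l⁻¹ b⁻¹, ← mul_inv_rev, ← hl]; group
    have h1 : (QuotientGroup.mk δ : Spor.Co1) = QuotientGroup.mk (γ7A * δ * γ7A) := by
      rw [QuotientGroup.mk_mul, QuotientGroup.mk_mul, hδ, hb, ← map_mul, ← map_mul, this]
    obtain ⟨ρ, hρ⟩ := exists_monoPerm
    have h6 : ρ ⟨γ7A, permHom_mem _⟩ = ⟨_, permOf_mem_M24 in7A⟩ := hρ _ _ ∅ empty_mem_code
    have ρn : ρ ⟨negCo0, negCo0_mem⟩ = 1 := hρ 1 (one_mem _) _ univ_mem_code
    refine not_real _ (ρ ⟨δ, m⟩).2 (congrArg Subtype.val (show (⟨_, permOf_mem_M24 in7A⟩ : M24) * ρ ⟨δ, m⟩ *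
      ⟨_, permOf_mem_M24 in7A⟩ = ρ ⟨δ, m⟩ from ?_))
    rw [← h6, ← map_mul, ← map_mul]
    rcases mk_eq_mk.1 h1 with h | h
    · exact congrArg ρ (Subtype.ext h)
    · exact (congrArg ρ (Subtype.ext h : _ = (⟨δ, m⟩ * ⟨negCo0, negCo0_mem⟩ : monoGroup))).trans
        (by rw [map_mul, ρn, mul_one])

/-- reduction to the standard element of order seven -/
theorem std {s : G} (M : Mon z Q φ cls) (hs : s ∈ Q) (hc : IsConj z s) (hne : s ≠ z) {B : Subgroup G}
    (hB : B ≤ centralizer ({z, s} : Set G))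
    (hp : Nat.card B = 7 ^ (Nat.card (centralizer ({z, s} : Set G))).factorization 7) :
    ∃ φ cls, Mon z Q φ cls ∧ ∃ b : centralizer ({z} : Set G), orderOf b = 7 ∧ B = zpowers (b : G) ∧
      (QuotientGroup.mk γ7A : Spor.Co1) = φ b := by
  obtain ⟨v, hv, h64⟩ := M.norm64_of_isConj hs hc hne
  obtain ⟨δ, hδ⟩ := M.exists_twist h64 hv
  obtain ⟨Λ, h1, h2, h3⟩ := (M.twist δ).exists_toM24 hδ
  have : Fact (Nat.Prime 7) := ⟨by norm_num⟩
  rw [factorization_top h1 h2 (by norm_num), card_M24, show (244823040 : ℕ).factorization 7 = 1 by decide +kernel,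
    pow_one] at hp
  obtain ⟨b, ob, eB, hj⟩ : ∃ b : centralizer ({z, s} : Set G), orderOf b = 7 ∧ B = zpowers (b : G) ∧
      IsConj ⟨permOf c7A, permOf_mem_M24 in7A⟩ (Λ b) := by
    obtain ⟨b, ob, eB⟩ := exists_zpowers_of_le hB hp
    obtain ⟨c, hc, o, -, hj⟩ := M24_class (Λ b)
    rw [orderOf_map_of_odd h2 (by rw [ob]; decide), ob] at o
    have ec : c.c = c7A ∨ c.c = c7B := by
      revert hc o; generalize c = c; revert c; decide +kernel
    rcases ec with ec | ec <;> rw [ec] at hj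
    · exact ⟨b, ob, eB, hj _⟩
    · obtain ⟨u, hu⟩ := isConj_iff.1 (hj (permOf_mem_M24 (by decide +kernel)))
      obtain ⟨k, hk, ek⟩ := Cfsg.Agent.S5416.conj7
      refine ⟨b⁻¹, by rwa [orderOf_inv], by simpa using eB, isConj_iff.2 ⟨u * (⟨k, hk⟩ : M24)⁻¹, ?_⟩⟩
      rw [map_inv, ← hu]
      apply Subtype.ext
      simp only [coe_mul, coe_inv]
      rw [eq_mul_inv_of_mul_eq ek]
      group
  obtain ⟨ε, hε⟩ := h3 b (by rw [ob]; decide) _ hj
  exact ⟨_, _, (M.twist δ).twist ε, ⟨b, mem_cent_iff.2 (mem_cent_pair.1 b.2).1⟩, by rwa [orderOf_mk, orderOf_coe],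
    eB, hε⟩

omit [Finite G] in
theorem mem_cent_zpowers {b g : G} : g ∈ centralizer (zpowers b : Set G) ↔ g * b = b * g := by
  rw [zpowers_eq_closure, centralizer_closure, mem_cent_iff]

omit [Finite G] in
theorem relIndex_six {b n t : G} (ob : orderOf b = 7) (hn : n * b * n⁻¹ = b ^ 2) (ht : t * b * t⁻¹ = b⁻¹) :
    (centralizer (zpowers b : Set G)).relIndex (normalizer (zpowers b : Set G)) = 6 := by
  have b7 : b ^ 7 = 1 := ob ▸ pow_orderOf_eq_one b
  have cB : Nat.card (zpowers b) = 7 := by rw [Nat.card_zpowers, ob]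
  have : Finite (zpowers b) := Nat.finite_of_card_ne_zero (by omega)
  have nm : ∀ g : G, g * b * g⁻¹ ∈ zpowers b → g ∈ normalizer (zpowers b : Set G) := fun g h =>
    mem_normalizer_fintype (by rintro _ ⟨k, rfl⟩; exact (conj_zpow (a := g) (b := b) (i := k)) ▸ zpow_mem h k)
  have ne : b ^ 2 ≠ b ∧ b⁻¹ ≠ b := ⟨fun e => by simp [mul_eq_left.1 (pow_two b ▸ e)] at ob, fun e => by
    have := ob ▸ orderOf_dvd_of_pow_eq_one (pow_two b ▸ inv_eq_iff_mul_eq_one.1 e)
    omega⟩
  let θ := (zpowers b).normalizerMonoidHom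
  have dv : ∀ (p : ℕ) [Fact p.Prime] (g : normalizer (zpowers b : Set G)), (g : G) * b * (g : G)⁻¹ ≠ b →
      (g : G) ^ p * b * ((g : G) ^ p)⁻¹ = b → p ∣ Nat.card θ.range := fun p _ g h1 h2 => by
    rw [← orderOf_eq_prime (p := p) (x := (⟨θ g, g, rfl⟩ : θ.range)) (Subtype.ext ?_) fun e => h1 ?_]
    · exact orderOf_dvd_natCard _
    · rw [coe_pow, ← map_pow, coe_one, ← MonoidHom.mem_ker, normalizerMonoidHom_ker, mem_subgroupOf]
      exact mem_cent_zpowers.2 (mul_inv_eq_iff_eq_mul.1 h2)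
    · exact congrArg (fun f : θ.range => ((f.1 ⟨b, mem_zpowers b⟩ : zpowers b) : G)) e
  have h2 := dv 2 ⟨t, nm t (ht ▸ inv_mem (mem_zpowers b))⟩ (fun e => ne.2 (ht.symm.trans e)) (by
    calc _ = t * (t * b * t⁻¹) * t⁻¹ := by simp only [pow_two]; group
      _ = _ := by rw [ht, ← conj_inv, ht, inv_inv])
  have h3 := dv 3 ⟨n, nm n (hn ▸ pow_mem (mem_zpowers b) 2)⟩ (fun e => ne.1 (hn.symm.trans e)) (by
    calc _ = n * (n * (n * b * n⁻¹) * n⁻¹) * n⁻¹ := by simp only [pow_three, mul_inv_rev, mul_assoc]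
      _ = _ := by rw [hn, ← conj_pow, hn, ← pow_mul, ← conj_pow, hn, ← pow_mul, pow_succ, b7, one_mul])
  have h6 := card_subgroup_dvd_card θ.range
  have := isCyclic_of_prime_card (p := 7) (hp := ⟨by norm_num⟩) cB
  rw [IsCyclic.card_mulAut, cB, Nat.totient_prime (by norm_num)] at h6
  rw [relIndex, ← normalizerMonoidHom_ker, index_ker]
  exact Nat.dvd_antisymm h6 (Nat.Coprime.mul_dvd_of_dvd_of_dvd (by norm_num) h2 h3)

omit [Finite G] in
theorem mem_layer {C S : Type*} [Group C] [Finite C] [Group S] [IsSimpleGroup S] (hS : ¬ IsMulCommutative S)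
    {π : C →* S} (hπ : Function.Surjective π) (hk : π.ker ≤ center C) (h7 : ∀ a ∈ π.ker, a ^ 7 = 1) {x : C}
    (hx : x ^ 4 = 1) : x ∈ layer C := by
  have := Finite.of_surjective _ hπ
  obtain ⟨l, hl, e⟩ := (H23.map_layer_of_ker_le_center hπ hk).ge
    (H23.IsComponent.le_layer (H23.isComponent_top_iff.2 (H23.isQuasisimple_of_isSimpleGroup hS)) (mem_top (π x)))
  have k : l⁻¹ * x ∈ π.ker := by rw [MonoidHom.mem_ker, map_mul, map_inv, e, inv_mul_cancel]
  have c : Commute l (l⁻¹ * x) := mem_center_iff.1 (hk k) l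
  have := c.mul_pow (7 * 7)
  rw [mul_inv_cancel_left, pow_mul (l⁻¹ * x), h7 _ k, one_pow, mul_one, show 7 * 7 = 4 * 12 + 1 from rfl, pow_succ,
    pow_mul, hx, one_pow, one_mul] at this
  exact this ▸ pow_mem hl _

end H48.M7
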